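import Cfsg.Prelude.Def_EvenType
import Mathlib.GroupTheory.Sylow
import Mathlib.GroupTheory.Perm.Cycle.Type

/-!
# Strongly `p`-embedded subgroups: basic facts

* `CfsgLib.EvenType.not_pRankLE_zero`: a nontrivial `p`-group has `p`-rank at least one.
* `CfsgLib.EvenType.normalizer_le_of_isStronglyPEmbedded`: normalizers of nontrivial `p`-subgroups
  of a strongly `p`-embedded subgroup lie in that subgroup.
-/

set_option autoImplicit false

namespace CfsgLib.EvenType

open Subgroup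

variable {G : Type*} [Group G] [Finite G] {p : ℕ} [hp : Fact p.Prime]

omit [Finite G] in
/-- A nontrivial finite `p`-group has a subgroup of order `p`. -/
theorem not_pRankLE_zero [Finite G] {Q : Subgroup G} (hQ : IsPGroup p ↥Q) (hne : Q ≠ ⊥) :
    ¬ Cfsg.PRankLE p 0 ↥Q := by
  intro h
  have : Nontrivial ↥Q := (Subgroup.nontrivial_iff_ne_bot Q).2 hne
  have hdvd : p ∣ Nat.card ↥Q := by
    rcases hQ.card_eq_or_dvd with h1 | h1
    · exact absurd h1 (Finite.one_lt_card).ne'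
    · exact h1
  obtain ⟨x, hx⟩ := exists_prime_orderOf_dvd_card' (G := ↥Q) p hdvd
  have h2 := h (zpowers x) inferInstance ?_
  · rw [Nat.card_zpowers, hx, pow_zero] at h2
    exact absurd h2 (not_le.2 hp.out.one_lt)
  · intro a ha
    obtain ⟨n, rfl⟩ := Subgroup.mem_zpowers_iff.1 ha
    rw [← zpow_natCast, ← zpow_mul, mul_comm, zpow_mul, zpow_natCast, ← hx, pow_orderOf_eq_one,
      one_zpow]

/-- The normalizer of a nontrivial subgroup of `P` lies in the 1-generated `p`-core of `P`. -/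
theorem normalizer_le_kGeneratedCore_one {P Q : Subgroup G} (hP : IsPGroup p ↥P) (hQP : Q ≤ P)
    (hne : Q ≠ ⊥) : normalizer (Q : Set G) ≤ Cfsg.kGeneratedCore p 1 P :=
  le_iSup (fun R : {R : Subgroup G // R ≤ P ∧ ¬ Cfsg.PRankLE p (1 - 1) R} =>
    normalizer ((R : Subgroup G) : Set G)) ⟨Q, hQP, by rw [Nat.sub_self]; exact not_pRankLE_zero (hP.to_le hQP) hne⟩

/-- A strongly `p`-embedded subgroup contains a Sylow `p`-subgroup of the whole group and the
corresponding 1-generated core. -/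
theorem exists_sylow_le_of_isStronglyPEmbedded {Y : Subgroup G}
    (hY : Cfsg.IsStronglyPEmbedded p Y) :
    ∃ P : Sylow p G, (P : Subgroup G) ≠ ⊥ ∧ (P : Subgroup G) ≤ Y ∧
      Cfsg.kGeneratedCore p 1 (P : Subgroup G) ≤ Y := by
  obtain ⟨hdvd, -, P, hP⟩ := hY
  have hne : (P : Subgroup G) ≠ ⊥ := P.ne_bot_of_dvd_card hdvd
  exact ⟨P, hne, le_normalizer.trans
    ((normalizer_le_kGeneratedCore_one P.isPGroup' le_rfl hne).trans hP), hP⟩

/-- A strongly `p`-embedded subgroup contains the normalizer of each of its nontrivial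
`p`-subgroups. -/
theorem normalizer_le_of_isStronglyPEmbedded {Y : Subgroup G} (hY : Cfsg.IsStronglyPEmbedded p Y)
    {X : Subgroup G} (hXY : X ≤ Y) (hX : IsPGroup p ↥X) (hne : X ≠ ⊥) :
    normalizer (X : Set G) ≤ Y := by
  obtain ⟨P, -, hPY, hP⟩ := exists_sylow_le_of_isStronglyPEmbedded hY
  obtain ⟨Q, hQ⟩ := (hX.comap_subtype (K := Y)).exists_le_sylow
  obtain ⟨m, hm⟩ := MulAction.exists_smul_eq ↥Y (P.subtype hPY) Q
  intro x hx
  have hXP : ∀ y ∈ X, (m : G)⁻¹ * y * m ∈ (P : Subgroup G) := by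
    intro y hy
    have h1 : (⟨y, hXY hy⟩ : ↥Y) ∈ (Q : Subgroup ↥Y) := hQ hy
    rw [← hm, Sylow.smul_def, Sylow.pointwise_smul_def,
      Subgroup.mem_pointwise_smul_iff_inv_smul_mem, Sylow.coe_subtype,
      Subgroup.mem_subgroupOf] at h1
    simpa [MulAut.smul_def] using h1
  have hmem : ∀ z : G, z ∈ X.map (MulAut.conj (m : G)⁻¹).toMonoidHom ↔
      (m : G) * z * (m : G)⁻¹ ∈ X := by
    intro z
    constructor
    · rintro ⟨w, hw, rfl⟩
      show (m : G) * ((m : G)⁻¹ * w * (m : G)⁻¹⁻¹) * (m : G)⁻¹ ∈ X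
      rw [show (m : G) * ((m : G)⁻¹ * w * (m : G)⁻¹⁻¹) * (m : G)⁻¹ = w by group]
      exact hw
    · intro hz
      refine ⟨_, hz, ?_⟩
      show (m : G)⁻¹ * ((m : G) * z * (m : G)⁻¹) * (m : G)⁻¹⁻¹ = z
      group
  have hQle : X.map (MulAut.conj (m : G)⁻¹).toMonoidHom ≤ (P : Subgroup G) := by
    intro z hz
    have := hXP _ ((hmem z).1 hz)
    simpa [mul_assoc] using this
  have hQne : X.map (MulAut.conj (m : G)⁻¹).toMonoidHom ≠ ⊥ := by
    rw [ne_eq, map_eq_bot_iff_of_injective _ (MulEquiv.injective _)]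
    exact hne
  have h2 : (m : G)⁻¹ * x * m ∈ Y := by
    refine hP (normalizer_le_kGeneratedCore_one P.isPGroup' hQle hQne ?_)
    rw [Subgroup.mem_normalizer_iff] at hx ⊢
    intro z
    rw [hmem, hmem, hx ((m : G) * z * (m : G)⁻¹)]
    group
  have := Y.mul_mem (Y.mul_mem m.2 h2) (Y.inv_mem m.2)
  simpa [mul_assoc] using this

end CfsgLib.EvenType
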